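/-
Geometric maximal subgroups of orthogonal groups in even dimension from ten on, for the lists in low dimension.
-/
import Cfsg.Agent.Lib.Classical22.OrthMaxSingular
import Cfsg.Agent.Lib.Classical22.OrthMaxMatrix
import Cfsg.Agent.Lib.Classical22.OrthMaxPoint
import Cfsg.Agent.Lib.Classical22.OrthMaxPairStab
import Cfsg.Agent.Lib.Classical22.OrthMaxSubspace
import Cfsg.Agent.Lib.Classical22.OrthDecompTwoMax
import Cfsg.Agent.Lib.Classical22.OrthDecompMax
import Cfsg.Agent.Lib.Classical22.Frame.Transfer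
import Cfsg.Agent.Lib.Classical22.Frame.EvenMain

set_option autoImplicit false
set_option linter.all false

namespace CfsgLib.Classical22.OrthLists

open CfsgLib.Classical CfsgLib.Classical22 Cfsg

variable {F : Type*} [Field F] [Fintype F] {n : ℕ} (q : QuadraticForm F (Fin n → F))

theorem two_ne_zero_of_odd (h : Odd (Fintype.card F)) : (2 : F) ≠ 0 := Ring.two_ne_zero fun hc =>
  Nat.not_even_iff_odd.2 h (Nat.even_iff.2 (FiniteField.even_card_iff_char_two.1 hc))

theorem two_eq_zero_of_not_odd (h : ¬ Odd (Fintype.card F)) : (2 : F) = 0 := by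
  have h3 : ringChar F = 2 :=
    FiniteField.even_card_iff_char_two.2 (Nat.even_iff.1 (Nat.not_odd_iff_even.1 h))
  exact_mod_cast (ringChar.spec F 2).2 (by rw [h3])

/-- Totally singular subspaces other than those one short of a half. -/
theorem singular_max (hQ : PolarNondeg q) (hn : 8 ≤ n) (heven : Even n) (W : Submodule F (Fin n → F)) (hW0 : W ≠ ⊥)
    (hW : Cfsg.Geo.IsTotallySingularQuad ⇑q W)
    (hdim : ¬ Cfsg.Geo.IsPlusTypeOn ⇑q ⊤ ∨ 2 * (Module.finrank F W + 1) ≠ n) :
    Cfsg.Geo.IsMaximalIn (Cfsg.Geo.omegaGL ⇑q) (Cfsg.Geo.subspaceStabilizer W ⊓ Cfsg.Geo.omegaGL ⇑q) := by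
  obtain ⟨j, hj⟩ := heven
  have hV : Module.finrank F (Fin n → F) = n := by simp
  have hk := two_mul_finrank_singular q hQ hW
  refine isMaximalIn_omegaGL q hQ (by simp; omega) (comap_subspaceStabilizer q W) (fun h => ?_)
    fun M hM _ hne => eichGroup_le_of_singular q hQ (by omega) hW ?_ hM hne
  · rw [eq_top_of_invariant q hQ (by omega) hW0 h, finrank_top] at hk
    omega
  by_cases hlt : 2 * Module.finrank F W + 3 ≤ Module.finrank F (Fin n → F)
  · exact Or.inl hlt
  refine Or.inr fun U hU hle => (Submodule.eq_of_le_of_finrank_le hle ?_).symm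
  have h2 := two_mul_finrank_singular q hQ hU
  rcases hdim with hminus | hdim
  · have hne : 2 * Module.finrank F U ≠ n := fun he => hminus ⟨U, le_top, hU, by rw [he, finrank_top, hV]⟩
    omega
  · omega

/-- Non-degenerate subspaces that are not isometric halves, small hyperbolic planes excluded. -/
theorem nondeg_max (hQ : PolarNondeg q) (hn : 9 ≤ n) (W : Submodule F (Fin n → F)) (hW0 : W ≠ ⊥) (hW1 : W ≠ ⊤)
    (hW : Cfsg.Geo.IsNondegenerateOn (QuadraticMap.polar ⇑q) W) (hcodim : Module.finrank F W + 2 ≠ n)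
    (hhalf : 2 * Module.finrank F W ≠ n ∨ (¬ Cfsg.Geo.IsPlusTypeOn ⇑q ⊤ ∧ Even (Module.finrank F W)))
    (hex : Module.finrank F W = 2 → Cfsg.Geo.IsPlusTypeOn ⇑q W → 4 ≤ Fintype.card F) :
    Cfsg.Geo.IsMaximalIn (Cfsg.Geo.omegaGL ⇑q) (Cfsg.Geo.subspaceStabilizer W ⊓ Cfsg.Geo.omegaGL ⇑q) := by
  have hV : Module.finrank F (Fin n → F) = n := by simp
  refine isMaximalIn_nondeg_of_le q hQ (Or.inl (by simpa using hn)) hW hW0 hW1 (fun hk φ hφ => ?_)
    (fun h => ?_) fun h => ?_
  · rw [Fintype.card_fin] at hk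
    rcases hhalf with hne | ⟨hminus, j, hj⟩
    · exact hne hk
    obtain ⟨U, hU, hUd⟩ := exists_singular_half q hQ (j := j) (ndOn_of_isNondegenerateOn q hW) (by omega) φ hφ
    refine hminus ⟨U, le_top, hU, ?_⟩
    rw [finrank_top, hV]
    omega
  · have := hex h.2.1 h.2.2
    omega
  · have h1 := h.2.1
    rw [finrank_qPerp q hQ, hV] at h1
    have := Submodule.finrank_le W
    omega

/-- The non-singular point in characteristic two. -/
theorem point_max (hQ : PolarNondeg q) (hn : 8 ≤ n) (hchar : ¬ Odd (Fintype.card F)) (v : Fin n → F) (hv : q v ≠ 0) :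
    Cfsg.Geo.IsMaximalIn (Cfsg.Geo.omegaGL ⇑q)
      (Cfsg.Geo.subspaceStabilizer (Submodule.span F {v}) ⊓ Cfsg.Geo.omegaGL ⇑q) := by
  have hV : Module.finrank F (Fin n → F) = n := by simp
  have hv0 : v ≠ 0 := fun h => hv (by rw [h, map_zero])
  refine isMaximalIn_omegaGL q hQ (by simp; omega) (comap_subspaceStabilizer q _) (fun h => ?_)
    fun M hM _ hne => eichGroup_le_of_point q (two_eq_zero_of_not_odd hchar) hQ (by omega) hv hM hne
  have h1 := congrArg (fun W : Submodule F (Fin n → F) => Module.finrank F W)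
    (eq_top_of_invariant q hQ (by omega) (Submodule.span_singleton_eq_bot.not.2 hv0) h)
  simp only [finrank_top, hV, finrank_span_singleton hv0] at h1
  omega

/-- Decompositions into members of dimension three or more. -/
theorem decomp_max (hQ : PolarNondeg q) (hn : 9 ≤ n) {t k : ℕ} {D : Fin t → Submodule F (Fin n → F)}
    (hD : Cfsg.Geo.IsOrthogonalMDecomposition ⇑q k D) (hk : 4 ≤ k ∨ (k = 3 ∧ Odd (Fintype.card F) ∧ 5 ≤ Fintype.card F))
    (hsmall : Fintype.card F = 2 → k = 4 → ¬ ∀ i, Cfsg.Geo.IsPlusTypeOn ⇑q (D i)) :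
    Cfsg.Geo.IsMaximalIn (Cfsg.Geo.omegaGL ⇑q)
      (Cfsg.Geo.decompositionStabilizer D ⊓ Cfsg.Geo.omegaGL ⇑q) := by
  by_cases h2 : (2 : F) = 0
  · refine OrthDecomp.isMaximalIn_decomp_two h2 q hQ (by simpa using hn) ?_ hD hsmall
    rcases hk with h | ⟨-, h, -⟩
    · exact h
    · exact absurd h2 (two_ne_zero_of_odd h)
  · exact OrthDecomp.isMaximalIn_decomp h2 q hQ (by simpa using hn) (by omega)
      (hk.symm.imp (fun h => h.2.2) id) hD

/-- Decompositions into planes of plus type. -/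
theorem plane_plus_max (hQ : PolarNondeg q) (hn : 10 ≤ n) {t : ℕ} {D : Fin t → Submodule F (Fin n → F)}
    (hD : Cfsg.Geo.IsOrthogonalMDecomposition ⇑q 2 D) (hq : 7 ≤ Fintype.card F) :
    Cfsg.Geo.IsMaximalIn (Cfsg.Geo.omegaGL ⇑q)
      (Cfsg.Geo.decompositionStabilizer D ⊓ Cfsg.Geo.omegaGL ⇑q) := by
  by_cases hodd : Odd (Fintype.card F)
  · exact OrthDecomp.isMaximalIn_decomp_plane (two_ne_zero_of_odd hodd) q hQ (by simpa using hn) hD (Or.inl hq)
  · refine OrthDecomp.isMaximalIn_decomp_plane_two (two_eq_zero_of_not_odd hodd) q hQ (by simpa using hn) hD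
      (Or.inl ?_)
    rw [Nat.odd_iff] at hodd
    omega

/-- Decompositions into planes of minus type. -/
theorem plane_minus_max (hQ : PolarNondeg q) (hn : 10 ≤ n) {t : ℕ} {D : Fin t → Submodule F (Fin n → F)}
    (hD : Cfsg.Geo.IsOrthogonalMDecomposition ⇑q 2 D) (hq : Fintype.card F ≠ 3)
    (hminus : ∀ i, ¬ Cfsg.Geo.IsPlusTypeOn ⇑q (D i)) :
    Cfsg.Geo.IsMaximalIn (Cfsg.Geo.omegaGL ⇑q)
      (Cfsg.Geo.decompositionStabilizer D ⊓ Cfsg.Geo.omegaGL ⇑q) := by
  by_cases hodd : Odd (Fintype.card F)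
  · refine OrthDecomp.isMaximalIn_decomp_plane (two_ne_zero_of_odd hodd) q hQ (by simpa using hn) hD
      (Or.inr ⟨?_, hminus⟩)
    have h1 : 1 < Fintype.card F := Fintype.one_lt_card
    rw [Nat.odd_iff] at hodd
    omega
  · exact OrthDecomp.isMaximalIn_decomp_plane_two (two_eq_zero_of_not_odd hodd) q hQ (by simpa using hn) hD
      (Or.inr hminus)

/-- Decompositions into planes of plus type occur only for forms of plus type. -/
theorem not_plus_of_minus (hminus : ¬ Cfsg.Geo.IsPlusTypeOn ⇑q ⊤) {t : ℕ} {D : Fin t → Submodule F (Fin n → F)}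
    (hD : Cfsg.Geo.IsOrthogonalMDecomposition ⇑q 2 D) (ht : 2 * t = n) (i : Fin t) :
    ¬ Cfsg.Geo.IsPlusTypeOn ⇑q (D i) := by
  intro hi
  have hd := OrthDecomp.data_of_decomp q hD
  have hx : ∀ j, ∃ x ∈ D j, x ≠ 0 ∧ q x = 0 := fun j => by
    obtain ⟨U, hU, hUs, hUd⟩ := OrthDecomp.isPlusTypeOn_of_data q hd hi j
    obtain ⟨x, hx, hx0⟩ := (Submodule.ne_bot_iff _).1 (show U ≠ ⊥ from fun h0 => by
      rw [h0, finrank_bot, hd.dim] at hUd
      omega)
    exact ⟨x, hU hx, hx0, hUs x hx⟩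
  choose x hxD hx0 hQx using hx
  have hpol : ∀ a b, QuadraticMap.polar (⇑q) (x a) (x b) = 0 := fun a b => by
    rcases eq_or_ne a b with rfl | hab
    · rw [quad_polar_self, hQx, mul_zero]
    · exact hd.orth a b hab _ (hxD a) _ (hxD b)
  refine hminus ⟨Submodule.span F (Set.range x), le_top, fun y hy => ?_, ?_⟩
  · suffices h : q y = 0 ∧ ∀ b, QuadraticMap.polar (⇑q) y (x b) = 0 from h.1
    induction hy using Submodule.span_induction with
    | mem z hz =>
      obtain ⟨a, rfl⟩ := hz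
      exact ⟨hQx a, hpol a⟩
    | zero => exact ⟨map_zero _, fun b => QuadraticMap.polar_zero_left _ _⟩
    | add y z _ hz hy hz' =>
      refine ⟨?_, fun b => by rw [QuadraticMap.polar_add_left, hy.2, hz'.2, add_zero]⟩
      have hyz : QuadraticMap.polar (⇑q) y z = 0 := by
        clear hz'
        induction hz using Submodule.span_induction with
        | mem w hw =>
          obtain ⟨a, rfl⟩ := hw
          exact hy.2 a
        | zero => exact QuadraticMap.polar_zero_right _ _
        | add a b _ _ ha hb => rw [QuadraticMap.polar_add_right, ha, hb, add_zero]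
        | smul c a _ ha => rw [QuadraticMap.polar_smul_right, ha, smul_zero]
      rw [quad_add, hy.1, hz'.1, hyz, add_zero, add_zero]
    | smul c y _ hy =>
      exact ⟨by rw [quad_smul, hy.1, mul_zero], fun b => by rw [QuadraticMap.polar_smul_left, hy.2, smul_zero]⟩
  · have hli : LinearIndependent F x := by
      rw [Fintype.linearIndependent_iff]
      intro c hc a
      obtain ⟨z, hz, -, hxz⟩ := exists_partner q (hd.nd a) (hxD a) (hx0 a) (hQx a)
      have h := congrArg (fun v => QuadraticMap.polarBilin q v z) hc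
      simp only [map_sum, LinearMap.coe_sum, Finset.sum_apply, map_smul, LinearMap.smul_apply, map_zero,
        LinearMap.zero_apply, QuadraticMap.polarBilin_apply_apply] at h
      rw [Finset.sum_eq_single a (fun b _ hb => by rw [hd.orth b a hb _ (hxD b) z hz, smul_zero])
        (fun h0 => absurd (Finset.mem_univ _) h0), hxz, smul_eq_mul, mul_one] at h
      exact h
    rw [finrank_span_eq_card hli, Fintype.card_fin, finrank_top, Module.finrank_fin_fun, ht]

/-- Two orthogonal halves of odd or even dimension that are not isometric. -/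
theorem halves_max (hQ : PolarNondeg q) (hn : 9 ≤ n) (k : ℕ) (hk : 2 * k = n) (D : Fin 2 → Submodule F (Fin n → F))
    (hD : Cfsg.Geo.IsNondegenerateMDecomposition (QuadraticMap.polar ⇑q) k D)
    (hni : ¬ Cfsg.Geo.AreIsometricFor ⇑q (D 0) (D 1)) :
    Cfsg.Geo.IsMaximalIn (Cfsg.Geo.omegaGL ⇑q)
      (Cfsg.Geo.decompositionStabilizer D ⊓ Cfsg.Geo.omegaGL ⇑q) := by
  have hV : Module.finrank F (Fin n → F) = n := by simp
  have hd := hD.decomp.finrank_eq
  have hD0 := ndOn_of_isNondegenerateOn q (hD.nondegenerate 0)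
  have hperp : qPerp q (D 0) = D 1 := by
    refine (Submodule.eq_of_le_of_finrank_le (fun z hz => (mem_qPerp q).2 fun w hw =>
      hD.orthogonal 0 1 (by decide) w hw z hz) ?_).symm
    rw [finrank_qPerp q hQ, hd, hd, hV]
    omega
  have hmax := isMaximalIn_nondeg_of_le q hQ (Or.inl (by simpa using hn)) (hD.nondegenerate 0)
    (fun h => by
      have := hd 0
      rw [h, finrank_bot] at this
      omega)
    (fun h => by
      have := hd 0
      rw [h, finrank_top] at this
      omega)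
    (fun _ φ hφ => by
      refine hni ?_
      obtain ⟨f, hf⟩ : ∃ f : D 0 →ₗ[F] D 1, f = (φ ∘ₗ (D 0).subtype).codRestrict (D 1)
          (fun z => hperp ▸ (hφ z z.2).1) := ⟨_, rfl⟩
      have hfQ : ∀ z : D 0, q (f z : Fin n → F) = q (z : Fin n → F) := fun z => by
        rw [hf]
        exact (hφ z z.2).2
      have hinj : Function.Injective f := (injective_iff_map_eq_zero f).2 fun z hz => by
        refine Subtype.ext (hD0 z z.2 fun y hy => ?_)
        have e : ∀ w : D 0, q (w : Fin n → F) = q (f w : Fin n → F) := fun w => (hfQ w).symm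
        have e1 := e (z + ⟨y, hy⟩)
        rw [map_add, hz, zero_add, Submodule.coe_add, ← e ⟨y, hy⟩, quad_add, e z, hz, Submodule.coe_zero,
          map_zero, zero_add] at e1
        exact add_eq_left.1 e1
      exact ⟨LinearEquiv.ofBijective f
        ⟨hinj, (LinearMap.injective_iff_surjective_of_finrank_eq_finrank ((hd 0).trans (hd 1).symm)).1 hinj⟩, hfQ⟩)
    (fun h => by
      have h2 := h.2.1
      rw [hd] at h2
      omega)
    (fun h => by
      have h2 := h.2.1
      rw [hperp, hd] at h2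
      omega)
  convert hmax using 1
  ext g
  refine and_congr_left fun hg => ?_
  rw [omegaGL_eq_map q hQ (by simp; omega)] at hg
  obtain ⟨a, -, rfl⟩ := hg
  change (∃ σ : Equiv.Perm (Fin 2), ∀ i, (D i).map (Matrix.toLin' (qHom q a : Matrix _ _ F)) = D (σ i)) ↔
    qHom q a ∈ Cfsg.Geo.subspaceStabilizer (D 0)
  rw [← Subgroup.mem_comap, comap_subspaceStabilizer, toLin'_qHom]
  constructor
  · rintro ⟨σ, hσ⟩
    refine mem_qStab_of_maps q fun z hz => ?_
    rcases Fin.exists_fin_two.1 ⟨σ 0, rfl⟩ with h | h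
    · exact h ▸ hσ 0 ▸ ⟨z, hz, rfl⟩
    · exfalso
      refine hni ⟨((a.1.submoduleMap (D 0)).trans (LinearEquiv.ofEq _ _ ((hσ 0).trans (congrArg D h)))), ?_⟩
      exact fun w => qAut_map a w
  · intro h
    refine ⟨1, Fin.forall_fin_two.2 ⟨?_, ?_⟩⟩
    · exact Submodule.eq_of_le_of_finrank_eq
        (by rintro _ ⟨z, hz, rfl⟩; exact apply_mem_of_qStab q h hz) (LinearEquiv.finrank_map_eq a.1 _)
    · exact Submodule.eq_of_le_of_finrank_eq
        (by rintro _ ⟨z, hz, rfl⟩; exact hperp ▸ apply_mem_of_qStab q (qPerp_invariant q h) (hperp.symm ▸ hz))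
        (LinearEquiv.finrank_map_eq a.1 _)

/-- Two totally singular halves of even dimension. -/
theorem pair_max (hQ : PolarNondeg q) (hn : 10 ≤ n) (k : ℕ) (hk : 2 * k = n) (hke : Even k)
    (D : Fin 2 → Submodule F (Fin n → F)) (hD : Cfsg.Geo.IsMDecomposition k D)
    (hts : ∀ i, Cfsg.Geo.IsTotallySingularQuad ⇑q (D i)) :
    Cfsg.Geo.IsMaximalIn (Cfsg.Geo.omegaGL ⇑q)
      (Cfsg.Geo.decompositionStabilizer D ⊓ Cfsg.Geo.omegaGL ⇑q) := by
  have hV : Module.finrank F (Fin n → F) = n := by simp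
  have hP := singPair_of_decomposition q hD hts
  have hd := hD.finrank_eq
  have hmem := mem_comap_decompositionStabilizer_two q (D := D) ((hd 0).trans (hd 1).symm)
  refine isMaximalIn_omegaGL q hQ (by simp; omega) rfl (fun hle => ?_) fun M hM hME hne => ?_
  · obtain ⟨g, hg, hgA, b, hb, hbB, hbA⟩ := exists_moving_half hP hQ (by rw [hd]; omega)
    rcases (hmem g).1 (hle hg) with h | h
    · exact hbB (h.2 b hb)
    · exact hbA (h.2 b hb)
  · obtain ⟨g, hgM, hg⟩ := SetLike.not_le_iff_exists.1 hne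
    obtain ⟨J, hJ, hJA, hJB⟩ := hP.exists_swap q hQ (hd 0) (hd 1) hke (by omega)
    rw [hmem, not_or] at hg
    exact eichGroup_le_of_singPair q hP hQ (by rw [hd]; omega) (by rw [hd]; omega)
      (fun a ha b hb hab => hM ⟨(hmem _).2 (Or.inl (eich_maps_pair hP ha hb hab)),
        eich_mem q (hP.singA a ha) hab⟩) (hM ⟨(hmem J).2 (Or.inr ⟨hJA, hJB⟩), hJ⟩) hJA hJB hgM hg

/-- Frames over a prime field of odd order. -/
theorem frame_max (hQ : PolarNondeg q) (hn : 10 ≤ n) (heven : Even n) (hprime : (Fintype.card F).Prime)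
    (hodd : Odd (Fintype.card F)) {D : Fin n → Submodule F (Fin n → F)}
    (hD : Cfsg.Geo.IsOrthogonalMDecomposition ⇑q 1 D) :
    Cfsg.Geo.IsMaximalIn (Cfsg.Geo.omegaGL ⇑q)
      (Cfsg.Geo.decompositionStabilizer D ⊓ Cfsg.Geo.omegaGL ⇑q) :=
  Frame.isMaximalIn_frame (two_ne_zero_of_odd hodd) q hQ (by omega) hD fun H hM hH =>
    (Frame.base_of_mono_le (two_ne_zero_of_odd hodd) hprime (by omega) hM).even_full_dichotomy (by omega) heven hH

end CfsgLib.Classical22.OrthLists
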